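import Cfsg.Agent.Lib.Linear.Card
import Cfsg.Agent.Lib.Zsigmondy.Basic

/-!
Sylow `r`-subgroups of `GL_n(q)` and `SL_n(q)` for a prime `r > n`, `r ∤ q`.
-/

set_option autoImplicit false

namespace CfsgLib.GLSylow

open CfsgLib.Zsigmondy Finset

variable {q r : ℕ} [hr : Fact r.Prime]

theorem orderOf_pos_of_not_dvd (hrq : ¬ r ∣ q) : 0 < orderOf (q : ZMod r) := by
  rw [orderOf_pos_iff, isOfFinOrder_iff_pow_eq_one]
  refine ⟨r - 1, by have := hr.out.two_le; omega, ZMod.pow_card_sub_one_eq_one ?_⟩
  rwa [Ne, ZMod.natCast_eq_zero_iff]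

theorem dvd_pow_sub_one_iff (hq : 0 < q) (i : ℕ) :
    r ∣ q ^ i - 1 ↔ orderOf (q : ZMod r) ∣ i := by
  rw [natCast_eq_one_iff_dvd hq, orderOf_dvd_iff_pow_eq_one]

theorem pow_sub_one_eq_prod (hq : 0 < q) {d : ℕ} (hd : 0 < d) :
    q ^ d - 1 = ∏ e ∈ d.divisors, cyclotomicValue q e := by
  have h := congr_arg (fun f => (Polynomial.eval (q : ℤ) f).natAbs)
    (Polynomial.prod_cyclotomic_eq_X_pow_sub_one hd ℤ)
  simp only [Polynomial.eval_prod, Polynomial.eval_sub, Polynomial.eval_pow, Polynomial.eval_X,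
    Polynomial.eval_one] at h
  rw [← Int.natAbs_natCast (q ^ d - 1), Nat.cast_sub (Nat.one_le_pow _ _ hq)]
  push_cast
  rw [← h]
  exact map_prod Int.natAbsHom _ _

theorem factorization_pow_orderOf (hq : 1 < q) (hrq : ¬ r ∣ q) :
    (q ^ orderOf (q : ZMod r) - 1).factorization r =
      (cyclotomicValue q (orderOf (q : ZMod r))).factorization r := by
  have hd := orderOf_pos_of_not_dvd hrq
  rw [pow_sub_one_eq_prod (by omega) hd]
  have h0 : ∀ e ∈ (orderOf (q : ZMod r)).divisors, cyclotomicValue q e ≠ 0 := fun e he => by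
    have h1 : 0 < q ^ e - 1 := by
      have := Nat.one_lt_pow (Nat.pos_of_mem_divisors he).ne' hq
      omega
    exact (Nat.pos_of_dvd_of_pos (cyclotomicValue_dvd_pow_sub_one (by omega) e) h1).ne'
  rw [Nat.factorization_prod h0, Finsupp.finsetSum_apply]
  refine Finset.sum_eq_single_of_mem _ (Nat.mem_divisors_self _ hd.ne') fun e he hne => ?_
  refine Nat.factorization_eq_zero_of_not_dvd fun hre => hne ?_
  have h1 := hre.trans (cyclotomicValue_dvd_pow_sub_one (by omega) e)
  rw [dvd_pow_sub_one_iff (by omega)] at h1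
  exact Nat.dvd_antisymm (Nat.dvd_of_mem_divisors he) h1

theorem factorization_pow_mul (hq : 1 < q) (hrq : ¬ r ∣ q) {j : ℕ} (hjr : ¬ r ∣ j) :
    (q ^ (orderOf (q : ZMod r) * j) - 1).factorization r =
      (q ^ orderOf (q : ZMod r) - 1).factorization r := by
  set d := orderOf (q : ZMod r) with hd
  have h1 : 1 ≤ q ^ d := Nat.one_le_pow _ _ (by omega)
  have hS : ¬ r ∣ ∑ k ∈ range j, (q ^ d) ^ k := by
    rw [← ZMod.natCast_eq_zero_iff]
    push_cast
    rw [hd, pow_orderOf_eq_one]
    simp only [one_pow, sum_const, card_range, nsmul_eq_mul, mul_one]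
    rw [ZMod.natCast_eq_zero_iff]
    exact hjr
  have hqd : q ^ d - 1 ≠ 0 := by
    have := Nat.one_lt_pow (orderOf_pos_of_not_dvd hrq).ne' hq
    rw [hd]; omega
  rw [pow_mul, ← geom_sum_mul_of_one_le h1, Nat.factorization_mul ?_ hqd, Finsupp.add_apply,
    Nat.factorization_eq_zero_of_not_dvd hS, zero_add]
  intro h
  rw [h] at hS
  exact hS (dvd_zero r)

/-- The `r`-part of `|GL_n(q)|`. -/
theorem factorization_card_GL {F : Type*} [Field F] [Fintype F] (hF : Fintype.card F = q) {n : ℕ}
    (hrn : n < r) (hrq : ¬ r ∣ q) :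
    (Nat.card (GL (Fin n) F)).factorization r = n / orderOf (q : ZMod r) *
      (cyclotomicValue q (orderOf (q : ZMod r))).factorization r := by
  have hq : 1 < q := hF ▸ Fintype.one_lt_card
  set d := orderOf (q : ZMod r) with hd
  set v := (cyclotomicValue q d).factorization r with hv
  have hne : ∀ i : Fin n, q ^ n - q ^ (i : ℕ) ≠ 0 := fun i => by
    have := Nat.pow_lt_pow_right hq i.2
    omega
  have hval : ∀ i : Fin n, (q ^ n - q ^ (i : ℕ)).factorization r =
      if d ∣ n - i then v else 0 := fun i => by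
    have e : q ^ n - q ^ (i : ℕ) = q ^ (i : ℕ) * (q ^ (n - i) - 1) := by
      rw [Nat.mul_sub, ← pow_add, mul_one, Nat.add_sub_cancel' i.2.le]
    have hne' : q ^ (n - i) - 1 ≠ 0 := fun h => hne i (by rw [e, h, mul_zero])
    rw [e, Nat.factorization_mul (pow_ne_zero _ (by omega)) hne', Finsupp.add_apply,
      Nat.factorization_eq_zero_of_not_dvd fun h => hrq (hr.out.dvd_of_dvd_pow h), zero_add]
    split_ifs with h
    · obtain ⟨j, hj⟩ := h
      have hj0 : 0 < j := Nat.pos_of_ne_zero fun h0 => by subst h0; omega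
      have hjle : j ≤ d * j := Nat.le_mul_of_pos_left j (orderOf_pos_of_not_dvd hrq)
      rw [hj, factorization_pow_mul hq hrq (Nat.not_dvd_of_pos_of_lt hj0 (by omega)), factorization_pow_orderOf hq hrq]
    · exact Nat.factorization_eq_zero_of_not_dvd fun h' =>
        h ((dvd_pow_sub_one_iff (by omega) _).1 h')
  rw [CfsgLib.Linear.card_GL_fin, hF, Nat.factorization_prod fun i _ => hne i,
    Finsupp.finsetSum_apply, Finset.sum_congr rfl fun i _ => hval i,
    Fin.sum_univ_eq_sum_range (fun i => if d ∣ n - i then v else 0) n,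
    ← Finset.sum_filter, Finset.sum_const, smul_eq_mul]
  congr 1
  rw [← Nat.Ioc_filter_dvd_card_eq_div n d]
  refine Finset.card_bij' (fun i _ => n - i) (fun i _ => n - i) ?_ ?_ ?_ ?_
  all_goals intro i hi
  all_goals simp only [mem_filter, mem_range, mem_Ioc] at hi ⊢
  · exact ⟨⟨by omega, by omega⟩, hi.2⟩
  · refine ⟨by omega, ?_⟩
    rw [show n - (n - i) = i by omega]
    exact hi.2
  · omega
  · omega

/-- A hom from a cyclic group into the units of a finite field. -/
theorem exists_cyclic_hom {E : Type*} [Field E] [Finite E] {c : ℕ} (hc : c ∣ Nat.card E - 1) :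
    ∃ g : Multiplicative (ZMod c) →* Eˣ, Function.Injective g := by
  obtain ⟨y, hy⟩ := IsCyclic.exists_ofOrder_eq_natCard (α := Eˣ)
  rw [Nat.card_units] at hy
  have hx : orderOf (y ^ (orderOf y / c)) = c :=
    orderOf_pow_orderOf_div (orderOf_pos y).ne' (hy ▸ hc)
  have e : Multiplicative (ZMod c) ≃* Subgroup.zpowers (y ^ (orderOf y / c)) :=
    mulEquivOfCyclicCardEq (by
      rw [Nat.card_congr Multiplicative.toAdd, Nat.card_zmod, Nat.card_zpowers, hx])
  exact ⟨(Subgroup.zpowers _).subtype.comp e.toMonoidHom,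
    Subtype.val_injective.comp e.injective⟩

/-- `⌊n/d⌋` tori of order `q^d - 1` inside `GL_n(q)`. -/
theorem exists_hom_GL {F : Type*} [Field F] [Fintype F] (hF : Fintype.card F = q) {n k d c : ℕ}
    (hd : 0 < d) (hk : k * d ≤ n) (hc : c ∣ q ^ d - 1) :
    ∃ f : (Fin k → Multiplicative (ZMod c)) →* GL (Fin n) F, Function.Injective f := by
  obtain ⟨p, hp⟩ := CharP.exists F
  have := Fact.mk (CharP.char_is_prime F p)
  have := NeZero.of_pos hd
  let E := FiniteField.Extension F p d
  obtain ⟨g, hg⟩ := exists_cyclic_hom (E := E) (c := c)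
    (by rw [FiniteField.natCard_extension, Nat.card_eq_fintype_card, hF]; exact hc)
  let A := (Fin k → E) × (Fin (n - k * d) → F)
  have hA : Module.finrank F A = n := by
    rw [Module.finrank_prod, Module.finrank_pi_fintype, Module.finrank_fin_fun,
      FiniteField.finrank_extension, sum_const, card_univ, Fintype.card_fin, smul_eq_mul]
    omega
  let b : Module.Basis (Fin n) F A := Module.finBasisOfFinrankEq F A hA
  refine ⟨(Units.map ((Algebra.leftMulMatrix b).toRingHom.toMonoidHom)).comp
    ((MulEquiv.prodUnits.symm.toMonoidHom.comp (MonoidHom.inl _ _)).comp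
      (MulEquiv.piUnits.symm.toMonoidHom.comp (g.compLeft (Fin k)))), ?_⟩
  refine (Units.map_injective (Algebra.leftMulMatrix_injective b)).comp ?_
  refine (MulEquiv.prodUnits.symm.injective.comp fun x y h => (Prod.ext_iff.1 h).1).comp ?_
  exact MulEquiv.piUnits.symm.injective.comp fun x y h =>
    funext fun i => hg (congr_fun h i)

theorem sylow_equiv {G X : Type*} [Group G] [Finite G] [Group X] (f : X →* G)
    (hf : Function.Injective f) (hX : Nat.card X = r ^ (Nat.card G).factorization r)
    (P : Sylow r G) : Nonempty (↥(P : Subgroup G) ≃* X) :=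
  have hc : Nat.card f.range = r ^ (Nat.card G).factorization r := by
    rw [← hX]
    exact (Nat.card_congr (MonoidHom.ofInjective hf).toEquiv).symm
  ⟨((P.equiv (Sylow.ofCard f.range hc)).trans
    (MulEquiv.subgroupCongr (by simp))).trans (MonoidHom.ofInjective hf).symm⟩

omit hr in
theorem card_pow_zmod (k v : ℕ) :
    Nat.card (Fin k → Multiplicative (ZMod (r ^ v))) = r ^ (k * v) := by
  rw [Nat.card_fun, Nat.card_congr Multiplicative.toAdd, Nat.card_zmod, Nat.card_fin, ← pow_mul,
    mul_comm]

theorem sylow_GL {F : Type*} [Field F] [Fintype F] (hF : Fintype.card F = q) {n : ℕ}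
    (hrn : n < r) (hrq : ¬ r ∣ q) (P : Sylow r (GL (Fin n) F)) :
    Nonempty (↥(P : Subgroup (GL (Fin n) F)) ≃* (Fin (n / orderOf (q : ZMod r)) →
      Multiplicative (ZMod (r ^ padicValNat r (cyclotomicValue q (orderOf (q : ZMod r))))))) := by
  have hd := orderOf_pos_of_not_dvd hrq
  have hq : 1 < q := hF ▸ Fintype.one_lt_card
  obtain ⟨f, hf⟩ := exists_hom_GL hF (n := n) (k := n / orderOf (q : ZMod r)) hd
    (Nat.div_mul_le_self _ _)
    (c := r ^ padicValNat r (cyclotomicValue q (orderOf (q : ZMod r))))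
    (pow_padicValNat_dvd.trans (cyclotomicValue_dvd_pow_sub_one (by omega) _))
  refine sylow_equiv f hf ?_ P
  rw [factorization_card_GL hF hrn hrq, Nat.factorization_def _ hr.out, card_pow_zmod]

omit hr in
theorem factorization_card_SL {F : Type*} [Field F] [Fintype F] (hF : Fintype.card F = q) {n : ℕ}
    (hn : 1 ≤ n) :
    (Nat.card (GL (Fin n) F)).factorization r = (q - 1).factorization r +
      (Nat.card (Matrix.SpecialLinearGroup (Fin n) F)).factorization r := by
  have : Nonempty (Fin n) := ⟨⟨0, hn⟩⟩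
  have hq : 1 < q := hF ▸ Fintype.one_lt_card
  rw [CfsgLib.Linear.card_GL_eq_mul_card_SL, hF, Nat.factorization_mul (by omega) Nat.card_pos.ne',
    Finsupp.add_apply]

theorem sylow_SL {F : Type*} [Field F] [Fintype F] (hF : Fintype.card F = q) {n : ℕ}
    (hrn : n < r) (hrq : ¬ r ∣ q) (P : Sylow r (Matrix.SpecialLinearGroup (Fin n) F)) :
    Nonempty (↥(P : Subgroup (Matrix.SpecialLinearGroup (Fin n) F)) ≃*
      (Fin ((Icc 2 n).filter (fun i => orderOf (q : ZMod r) ∣ i)).card →
        Multiplicative (ZMod (r ^ padicValNat r (cyclotomicValue q (orderOf (q : ZMod r))))))) := by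
  have hd := orderOf_pos_of_not_dvd hrq
  have hq : 1 < q := hF ▸ Fintype.one_lt_card
  set d := orderOf (q : ZMod r) with hd'
  set v := padicValNat r (cyclotomicValue q d) with hv
  have hv' : v = (cyclotomicValue q d).factorization r := (Nat.factorization_def _ hr.out).symm
  rcases n with _ | m
  · refine sylow_equiv (1 : _ →* Matrix.SpecialLinearGroup (Fin 0) F) ?_ ?_ P
    · intro x y _
      exact funext fun i => absurd i.2 (by simp)
    · simp
  have hGL := factorization_card_GL hF hrn hrq
  rw [factorization_card_SL hF (by omega), ← hd', ← hv'] at hGL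
  rcases Nat.lt_or_ge 1 d with h1 | h1
  · have hk : ((Icc 2 (m + 1)).filter (fun i => d ∣ i)).card = (m + 1) / d := by
      rw [← Nat.Ioc_filter_dvd_card_eq_div]
      congr 1
      ext i
      simp only [mem_filter, mem_Icc, mem_Ioc]
      constructor
      · rintro ⟨h, hi⟩; exact ⟨⟨by omega, h.2⟩, hi⟩
      · rintro ⟨h, hi⟩; exact ⟨⟨by have := Nat.le_of_dvd h.1 hi; omega, h.2⟩, hi⟩
    have hq1 : ¬ r ∣ q - 1 := fun h => by
      have h' := (dvd_pow_sub_one_iff (r := r) (by omega : 0 < q) 1).1 (by rwa [pow_one])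
      rw [Nat.dvd_one] at h'
      omega
    rw [Nat.factorization_eq_zero_of_not_dvd hq1, zero_add] at hGL
    obtain ⟨f, hf⟩ := exists_hom_GL hF (n := m + 1) (k := (m + 1) / d) hd
      (Nat.div_mul_le_self _ _) (c := r ^ v)
      (pow_padicValNat_dvd.trans (cyclotomicValue_dvd_pow_sub_one (by omega) _))
    have hdet : ∀ x, ((f x : GL (Fin (m + 1)) F) : Matrix (Fin (m + 1)) (Fin (m + 1)) F).det = 1 := by
      intro x
      have e1 : x ^ (r ^ v) = 1 := funext fun i => by
        rw [Pi.pow_apply]
        exact Multiplicative.toAdd.injective (by simp)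
      have e2 : (Matrix.GeneralLinearGroup.det (f x)) ^ (r ^ v) = 1 := by
        rw [← map_pow, ← map_pow, e1, map_one, map_one]
      have e3 : orderOf (Matrix.GeneralLinearGroup.det (f x)) ∣ q - 1 := by
        rw [← hF, ← Nat.card_eq_fintype_card, ← Nat.card_units]
        exact orderOf_dvd_natCard _
      have e4 : orderOf (Matrix.GeneralLinearGroup.det (f x)) = 1 :=
        Nat.eq_one_of_dvd_coprimes ((hr.out.coprime_iff_not_dvd.2 hq1).pow_left v)
          (orderOf_dvd_of_pow_eq_one e2) e3
      simpa [Units.ext_iff] using orderOf_eq_one_iff.1 e4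
    let g : (Fin ((m + 1) / d) → Multiplicative (ZMod (r ^ v))) →*
        Matrix.SpecialLinearGroup (Fin (m + 1)) F :=
      MonoidHom.mk' (fun x => ⟨_, hdet x⟩) fun x y => Subtype.ext (congrArg Units.val (map_mul f x y))
    rw [hk]
    refine sylow_equiv g (fun x y h => hf (Units.ext (congr_arg Subtype.val h))) ?_ P
    rw [hGL, card_pow_zmod]
  · have hd1 : d = 1 := by omega
    have hk : ((Icc 2 (m + 1)).filter (fun i => d ∣ i)).card = m := by simp [hd1]
    have hq1 : (q - 1).factorization r = v := by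
      rw [hv', ← factorization_pow_orderOf hq hrq, ← hd', hd1, pow_one]
    rw [hq1, hd1, Nat.div_one] at hGL
    obtain ⟨g, hg⟩ := exists_cyclic_hom (E := F) (c := r ^ v) (by
      rw [Nat.card_eq_fintype_card, hF]
      have := cyclotomicValue_dvd_pow_sub_one (a := q) (by omega) d
      rw [hd1, pow_one] at this
      rw [hv, hd1]
      exact pow_padicValNat_dvd.trans this)
    let f : (Fin m → Multiplicative (ZMod (r ^ v))) →* Matrix.SpecialLinearGroup (Fin (m + 1)) F :=
      MonoidHom.mk' (fun x => ⟨Matrix.diagonal (Fin.cons ((∏ i, g (x i))⁻¹ : Fˣ).val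
        (fun i => (g (x i)).val)), by
          rw [Matrix.det_diagonal, Fin.prod_univ_succ]
          simp only [Fin.cons_zero, Fin.cons_succ]
          rw [← Units.coe_prod, Units.inv_mul]⟩) fun x y => Subtype.ext (by
        refine Eq.trans ?_ (Matrix.diagonal_mul_diagonal _ _).symm
        refine congr_arg Matrix.diagonal (funext fun i => ?_)
        refine Fin.cases ?_ ?_ i
        · simp [Finset.prod_mul_distrib, mul_comm]
        · intro j; simp)
    rw [hk]
    refine sylow_equiv f (fun x y h => funext fun i => hg (Units.ext ?_)) ?_ P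
    · have h' := congr_fun (Matrix.diagonal_injective (congr_arg Subtype.val h)) i.succ
      simpa using h'
    · rw [card_pow_zmod]
      congr 1
      have : (m + 1) * v = v + m * v := by ring
      omega

end CfsgLib.GLSylow
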