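import Cfsg.Agent.Lib.GLSylow.Homocyclic
import Cfsg.Agent.Lib.Linear.SympCard

/-!
Sylow `r`-subgroups of `Sp_{2n}(q)` for an odd prime `r > n`, `r ∤ q`.
-/

set_option autoImplicit false

namespace CfsgLib.GLSylow

open CfsgLib.Zsigmondy Matrix

section restrict

variable {F A : Type*} [Field F] [CommRing A] [Algebra F A] {n : ℕ}

/-- The Gram matrix of a functional on a commutative algebra. -/
noncomputable def gram (b : Module.Basis (Fin n) F A) (τ : A →ₗ[F] F) : Matrix (Fin n) (Fin n) F :=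
  Matrix.of fun i j => τ (b i * b j)

theorem gram_mul_apply (b : Module.Basis (Fin n) F A) (τ : A →ₗ[F] F) (a : A) (i j : Fin n) :
    (gram b τ * Algebra.leftMulMatrix b a) i j = τ (b i * (a * b j)) := by
  conv_rhs => rw [← b.sum_repr (a * b j), Finset.mul_sum, map_sum]
  rw [Matrix.mul_apply]
  refine Finset.sum_congr rfl fun l _ => ?_
  rw [mul_smul_comm, map_smul, smul_eq_mul, Algebra.leftMulMatrix_eq_repr_mul, gram, Matrix.of_apply,
    mul_comm]

theorem gram_transpose (b : Module.Basis (Fin n) F A) (τ : A →ₗ[F] F) :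
    (gram b τ)ᵀ = gram b τ := by
  ext i j
  simp [gram, mul_comm]

theorem gram_mul (b : Module.Basis (Fin n) F A) (τ : A →ₗ[F] F) (a : A) :
    (Algebra.leftMulMatrix b a)ᵀ * gram b τ = gram b τ * Algebra.leftMulMatrix b a := by
  rw [show (Algebra.leftMulMatrix b a)ᵀ * gram b τ = (gram b τ * Algebra.leftMulMatrix b a)ᵀ by
    rw [Matrix.transpose_mul, gram_transpose]]
  ext i j
  rw [Matrix.transpose_apply, gram_mul_apply, gram_mul_apply]
  congr 1
  ring

theorem gram_det_ne_zero (b : Module.Basis (Fin n) F A) (τ : A →ₗ[F] F)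
    (hτ : ∀ x, (∀ y, τ (x * y) = 0) → x = 0) : (gram b τ).det ≠ 0 := by
  intro h
  obtain ⟨v, hv0, hv⟩ := Matrix.exists_mulVec_eq_zero_iff.2 h
  refine hv0 ?_
  set x := ∑ j, v j • b j with hx
  have h1 : ∀ i, τ (x * b i) = 0 := fun i => by
    have := congr_fun hv i
    rw [hx, Finset.sum_mul, map_sum]
    rw [Matrix.mulVec, dotProduct] at this
    simp only [Pi.zero_apply] at this
    rw [← this]
    refine Finset.sum_congr rfl fun j _ => ?_
    rw [smul_mul_assoc, map_smul, gram, Matrix.of_apply, mul_comm (b j), smul_eq_mul, mul_comm]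
  have h2 : x = 0 := hτ x fun y => by
    have := b.ext (f₁ := τ ∘ₗ LinearMap.mulLeft F x) (f₂ := 0) (fun i => by simpa using h1 i)
    simpa using LinearMap.congr_fun this y
  funext j
  exact Fintype.linearIndependent_iff.1 b.linearIndependent v h2 j

/-- Restriction of scalars `SL₂(A) → Sp_{2n}(F)`. -/
theorem exists_hom_SL_Sp (b : Module.Basis (Fin n) F A) (τ : A →ₗ[F] F)
    (hτ : ∀ x, (∀ y, τ (x * y) = 0) → x = 0) :
    ∃ f : SpecialLinearGroup (Fin 2) A →* Matrix.symplecticGroup (Fin n) F,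
      Function.Injective f := by
  set G := gram b τ with hG
  set L := Algebra.leftMulMatrix b with hL
  have hGu : IsUnit G.det := (gram_det_ne_zero b τ hτ).isUnit
  have h1 : G * G⁻¹ = 1 := Matrix.mul_nonsing_inv _ hGu
  have h2 : G⁻¹ * G = 1 := Matrix.nonsing_inv_mul _ hGu
  have hT : ∀ a, (L a)ᵀ = G * L a * G⁻¹ := fun a => by
    rw [← gram_mul, Matrix.mul_assoc, h1, Matrix.mul_one]
  have hGi : (G⁻¹)ᵀ = G⁻¹ := by rw [Matrix.transpose_nonsing_inv, gram_transpose]
  let M : SpecialLinearGroup (Fin 2) A → Matrix (Fin n ⊕ Fin n) (Fin n ⊕ Fin n) F := fun x =>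
    fromBlocks (L (x 0 0)) (L (x 0 1) * G⁻¹) (G * L (x 1 0)) (G * L (x 1 1) * G⁻¹)
  have hmem : ∀ x, M x ∈ Matrix.symplecticGroup (Fin n) F := fun x => by
    have hd : x 0 0 * x 1 1 - x 0 1 * x 1 0 = 1 := by
      rw [← Matrix.det_fin_two]
      exact x.det_coe
    have hBt : (L (x 0 1) * G⁻¹)ᵀ = L (x 0 1) * G⁻¹ := by
      rw [Matrix.transpose_mul, hGi, hT, ← Matrix.mul_assoc, ← Matrix.mul_assoc, h2, Matrix.one_mul]
    have hCt : (G * L (x 1 0))ᵀ = G * L (x 1 0) := by
      rw [Matrix.transpose_mul, gram_transpose, gram_mul]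
    have hDt : (G * L (x 1 1) * G⁻¹)ᵀ = L (x 1 1) := by
      rw [← hT, Matrix.transpose_transpose]
    rw [SymplecticGroup.mem_iff]
    simp only [M, J, fromBlocks_transpose, fromBlocks_multiply, hBt, hCt, hDt, hT (x 0 0)]
    simp only [Matrix.mul_zero, Matrix.mul_one, zero_add, add_zero, Matrix.mul_neg, Matrix.neg_mul]
    have eA : ∀ u w : A, L u * (L w * G⁻¹) = L (u * w) * G⁻¹ := fun u w => by
      rw [map_mul, Matrix.mul_assoc]
    congr 1
    · rw [eA, Matrix.mul_assoc (L (x 0 1)), ← Matrix.mul_assoc G⁻¹, ← Matrix.mul_assoc G⁻¹, h2,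
        Matrix.one_mul, eA, mul_comm, add_neg_cancel]
    · rw [← Matrix.mul_assoc, Matrix.mul_assoc (L (x 0 1)) G⁻¹, h2, Matrix.mul_one, ← map_mul,
        ← map_mul, ← map_neg, ← map_add, ← map_one L, ← map_neg]
      congr 1
      linear_combination (-1 : A) * hd
    · rw [Matrix.mul_assoc G (L (x 1 1)) G⁻¹, Matrix.mul_assoc G, Matrix.mul_assoc (L (x 1 1)),
        ← Matrix.mul_assoc G⁻¹, ← Matrix.mul_assoc G⁻¹, h2, Matrix.one_mul, eA,
        Matrix.mul_assoc G (L (x 1 0)), eA, ← Matrix.mul_neg, ← Matrix.mul_add, ← Matrix.neg_mul,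
        ← Matrix.add_mul, ← map_neg, ← map_add]
      rw [show x 1 1 * x 0 0 + -(x 1 0 * x 0 1) = 1 by linear_combination hd, map_one,
        Matrix.one_mul, h1]
    · rw [Matrix.mul_assoc G (L (x 1 1)) G⁻¹, Matrix.mul_assoc G, Matrix.mul_assoc (L (x 1 1)),
        ← Matrix.mul_assoc G⁻¹, h2, Matrix.one_mul, ← map_mul, Matrix.mul_assoc G, ← map_mul,
        mul_comm, add_neg_cancel]
  refine ⟨MonoidHom.mk' (fun x => ⟨M x, hmem x⟩) fun x y => Subtype.ext ?_, fun x y h => ?_⟩
  · show M (x * y) = M x * M y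
    have hx : ∀ i j, ((x * y : SpecialLinearGroup (Fin 2) A) : Matrix (Fin 2) (Fin 2) A) i j =
        x i 0 * y 0 j + x i 1 * y 1 j := fun i j => by
      show (x.1 * y.1) i j = _
      rw [Matrix.mul_apply, Fin.sum_univ_two]
    simp only [M, fromBlocks_multiply, hx, map_add, map_mul, Matrix.mul_assoc, Matrix.add_mul,
      Matrix.mul_add]
    simp only [← Matrix.mul_assoc G⁻¹ G, h2, Matrix.one_mul]
  · have h' : M x = M y := congr_arg Subtype.val h
    obtain ⟨a1, a2, a3, a4⟩ := Matrix.fromBlocks_inj.1 h'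
    have inj := Algebra.leftMulMatrix_injective b
    have hGU : IsUnit G := (Matrix.isUnit_iff_isUnit_det G).2 hGu
    have hGU' : IsUnit G⁻¹ := (Matrix.isUnit_iff_isUnit_det _).2 (Matrix.isUnit_nonsing_inv_det _ hGu)
    refine Matrix.SpecialLinearGroup.ext _ _ fun i j => ?_
    fin_cases i <;> fin_cases j
    · exact inj a1
    · exact inj (hGU'.mul_right_cancel a2)
    · exact inj (hGU.mul_left_cancel a3)
    · exact inj (hGU.mul_left_cancel (hGU'.mul_right_cancel a4))

end restrict

variable {q r : ℕ} [hr : Fact r.Prime]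

theorem factorization_card_Sp {F : Type*} [Field F] [Fintype F] (hF : Fintype.card F = q) {n : ℕ}
    (hr2 : r ≠ 2) (hrn : n < r) (hrq : ¬ r ∣ q) :
    (Nat.card (Matrix.symplecticGroup (Fin n) F)).factorization r =
      ((Finset.Icc 1 n).filter (fun i => orderOf (q : ZMod r) ∣ 2 * i)).card *
      (cyclotomicValue q (orderOf (q : ZMod r))).factorization r := by
  have hq : 1 < q := hF ▸ Fintype.one_lt_card
  set d := orderOf (q : ZMod r) with hd
  set v := (cyclotomicValue q d).factorization r with hv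
  have hne : ∀ k : ℕ, q ^ (2 * (k + 1)) - 1 ≠ 0 := fun k => by
    have := Nat.one_lt_pow (n := 2 * (k + 1)) (by omega) hq
    omega
  have hval : ∀ k < n, (q ^ (2 * (k + 1)) - 1).factorization r =
      if d ∣ 2 * (k + 1) then v else 0 := fun k hk => by
    split_ifs with h
    · obtain ⟨j, hj⟩ := h
      have hd0 : 0 < d := orderOf_pos_of_not_dvd hrq
      have hj0 : 0 < j := Nat.pos_of_ne_zero fun h0 => by subst h0; omega
      have hjr : ¬ r ∣ j := fun hrj => by
        have h2 : r ∣ 2 * (k + 1) := hj ▸ hrj.mul_left d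
        rcases hr.out.dvd_mul.1 h2 with h3 | h3
        · exact hr2 ((Nat.prime_dvd_prime_iff_eq hr.out Nat.prime_two).1 h3)
        · exact absurd (Nat.le_of_dvd (by omega) h3) (by omega)
      rw [hj, factorization_pow_mul hq hrq hjr, factorization_pow_orderOf hq hrq]
    · exact Nat.factorization_eq_zero_of_not_dvd fun h' =>
        h ((dvd_pow_sub_one_iff (by omega) _).1 h')
  rw [CfsgLib.Linear.Symp.card_symplectic, hF, Nat.factorization_mul (pow_ne_zero _ (by omega))
    (Finset.prod_ne_zero_iff.2 fun k _ => hne k), Finsupp.add_apply,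
    Nat.factorization_eq_zero_of_not_dvd fun h => hrq (hr.out.dvd_of_dvd_pow h), zero_add,
    Nat.factorization_prod fun k _ => hne k, Finsupp.finsetSum_apply,
    Finset.sum_congr rfl fun k hk => hval k (Finset.mem_range.1 hk), ← Finset.sum_filter,
    Finset.sum_const, smul_eq_mul]
  congr 1
  refine Finset.card_bij' (fun i _ => i + 1) (fun i _ => i - 1) ?_ ?_ ?_ ?_
  all_goals intro i hi
  all_goals simp only [Finset.mem_filter, Finset.mem_range, Finset.mem_Icc] at hi ⊢
  · exact ⟨⟨by omega, by omega⟩, hi.2⟩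
  · refine ⟨by omega, ?_⟩
    rw [show i - 1 + 1 = i by omega]
    exact hi.2
  · omega
  · omega

/-- `e`: least positive `i` with `d ∣ 2 i`. -/
theorem half_order {d : ℕ} (hd : 0 < d) :
    ∃ e, 0 < e ∧ (∀ i, d ∣ 2 * i ↔ e ∣ i) ∧ (d = e ∨ d = 2 * e) := by
  rcases Nat.even_or_odd' d with ⟨e, rfl | rfl⟩
  · exact ⟨e, by omega, fun i => Nat.mul_dvd_mul_iff_left (by norm_num), Or.inr rfl⟩
  · refine ⟨2 * e + 1, by omega, fun i => ⟨?_, fun h => h.mul_left 2⟩, Or.inl rfl⟩
    exact (Nat.Coprime.dvd_of_dvd_mul_left (by simp))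

/-- A cyclic subgroup of order the full `r`-part in `SL₂(q^e)`. -/
theorem exists_cyclic_hom_SL_two {L : Type*} [Field L] [Fintype L] {e : ℕ}
    (hL : Fintype.card L = q ^ e) (hq : 1 < q) (hr2 : r ≠ 2) (hrq : ¬ r ∣ q) (he : 0 < e)
    (hd : orderOf (q : ZMod r) = e ∨ orderOf (q : ZMod r) = 2 * e) :
    ∃ g : Multiplicative (ZMod (r ^ padicValNat r (cyclotomicValue q (orderOf (q : ZMod r))))) →*
      SpecialLinearGroup (Fin 2) L, Function.Injective g := by
  have hrqe : ¬ r ∣ q ^ e := fun h => hrq (hr.out.dvd_of_dvd_pow h)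
  have h2r : 2 < r := by
    have := hr.out.two_le
    omega
  let P₀ : Sylow r (SpecialLinearGroup (Fin 2) L) := default
  obtain ⟨φ⟩ := sylow_SL hL h2r hrqe P₀
  set d := orderOf (q : ZMod r) with hd'
  have h2 : d ∣ 2 * e := by rcases hd with h | h <;> rw [h] <;> simp
  have hk : ((Finset.Icc 2 2).filter (fun i => orderOf ((q ^ e : ℕ) : ZMod r) ∣ i)).card = 1 := by
    have : orderOf ((q ^ e : ℕ) : ZMod r) ∣ 2 := by
      rw [orderOf_dvd_iff_pow_eq_one, Nat.cast_pow, ← pow_mul, ← orderOf_dvd_iff_pow_eq_one, mul_comm]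
      exact h2
    rw [Finset.Icc_self, Finset.filter_singleton, if_pos this, Finset.card_singleton]
  have hc := Nat.card_congr φ.toEquiv
  rw [card_pow_zmod, hk, one_mul, Sylow.card_eq_multiplicity] at hc
  have hv : (Nat.card (SpecialLinearGroup (Fin 2) L)).factorization r =
      padicValNat r (cyclotomicValue q d) := by
    rw [CfsgLib.Linear.card_SL_two, hL, ← pow_mul]
    have hne : q ^ (e * 2) - 1 ≠ 0 := by
      have := Nat.one_lt_pow (n := e * 2) (by omega) hq
      omega
    rw [Nat.factorization_mul (pow_ne_zero _ (by omega)) hne, Finsupp.add_apply,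
      Nat.factorization_eq_zero_of_not_dvd hrqe, zero_add]
    rcases hd with h | h
    · rw [show q ^ (e * 2) = q ^ (d * 2) by rw [h], hd', factorization_pow_mul hq hrq (Nat.not_dvd_of_pos_of_lt (by norm_num) h2r),
        factorization_pow_orderOf hq hrq, Nat.factorization_def _ hr.out]
    · rw [show q ^ (e * 2) = q ^ (d * 1) by rw [h, mul_one, mul_comm], hd',
        factorization_pow_mul hq hrq hr.out.not_dvd_one,
        factorization_pow_orderOf hq hrq, Nat.factorization_def _ hr.out]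
  rw [hv] at hc
  have hP : IsCyclic ↥P₀ := by
    refine φ.isCyclic.2 ?_
    rw [hk]
    exact (MulEquiv.funUnique (Fin 1) _).isCyclic.2 inferInstance
  exact ⟨(P₀ : Subgroup _).subtype.comp (mulEquivOfCyclicCardEq (by
      rw [Nat.card_congr Multiplicative.toAdd, Nat.card_zmod, Sylow.card_eq_multiplicity, hv])).toMonoidHom,
    Subtype.val_injective.comp (MulEquiv.injective _)⟩

theorem exists_functional {F : Type*} [Field F] [Fintype F] (L : Type*) [Field L] [Finite L]
    [Algebra F L] (k t : ℕ) : ∃ τ : ((Fin k → L) × (Fin t → F)) →ₗ[F] F,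
      ∀ x, (∀ y, τ (x * y) = 0) → x = 0 := by
  classical
  refine ⟨(∑ i, (Algebra.trace F L).comp ((LinearMap.proj i).comp (LinearMap.fst F _ _))) +
      ∑ j, (LinearMap.proj j).comp (LinearMap.snd F _ _), fun x hx => ?_⟩
  simp only [LinearMap.add_apply, LinearMap.sum_apply, LinearMap.comp_apply, LinearMap.proj_apply,
    LinearMap.fst_apply, LinearMap.snd_apply, Prod.fst_mul, Prod.snd_mul, Pi.mul_apply] at hx
  refine Prod.ext (funext fun i => ?_) (funext fun j => ?_)
  · by_contra hne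
    obtain ⟨z, hz⟩ := Algebra.trace_surjective F L 1
    have h0 := hx (Pi.single i ((x.1 i)⁻¹ * z), 0)
    simp only [Pi.zero_apply, mul_zero, Finset.sum_const_zero, add_zero] at h0
    rw [Finset.sum_eq_single i (fun l _ hl => by rw [Pi.single_eq_of_ne hl, mul_zero, map_zero])
      (by simp), Pi.single_eq_same, ← mul_assoc, mul_inv_cancel₀ hne, one_mul, hz] at h0
    exact one_ne_zero h0
  · have h0 := hx (0, Pi.single j 1)
    simp only [Pi.zero_apply, mul_zero, map_zero, Finset.sum_const_zero, zero_add] at h0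
    rw [Finset.sum_eq_single j (fun l _ hl => by rw [Pi.single_eq_of_ne hl, mul_zero])
      (by simp), Pi.single_eq_same, mul_one] at h0
    exact h0

theorem sylow_Sp {F : Type*} [Field F] [Fintype F] (hF : Fintype.card F = q) {n : ℕ} (hr2 : r ≠ 2)
    (hrn : n < r) (hrq : ¬ r ∣ q) (P : Sylow r (Matrix.symplecticGroup (Fin n) F)) :
    Nonempty (↥(P : Subgroup (Matrix.symplecticGroup (Fin n) F)) ≃*
      (Fin ((Finset.Icc 1 n).filter (fun i => orderOf (q : ZMod r) ∣ 2 * i)).card →
        Multiplicative (ZMod (r ^ padicValNat r (cyclotomicValue q (orderOf (q : ZMod r))))))) := by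
  have hq : 1 < q := hF ▸ Fintype.one_lt_card
  obtain ⟨e, he, hei, hde⟩ := half_order (orderOf_pos_of_not_dvd hrq)
  obtain ⟨p, hp⟩ := CharP.exists F
  have := Fact.mk (CharP.char_is_prime F p)
  have := NeZero.of_pos he
  let L := FiniteField.Extension F p e
  have : Fintype L := Fintype.ofFinite L
  have hL : Fintype.card L = q ^ e := by
    rw [← Nat.card_eq_fintype_card, FiniteField.natCard_extension, Nat.card_eq_fintype_card, hF]
  obtain ⟨g, hg⟩ := exists_cyclic_hom_SL_two hL hq hr2 hrq he hde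
  have hk : ((Finset.Icc 1 n).filter (fun i => orderOf (q : ZMod r) ∣ 2 * i)).card = n / e := by
    rw [← Nat.Ioc_filter_dvd_card_eq_div]
    congr 1
    ext i
    simp only [Finset.mem_filter, Finset.mem_Icc, Finset.mem_Ioc, hei]
    constructor <;> (intro h; exact ⟨⟨by omega, by omega⟩, h.2⟩)
  have hA : Module.finrank F ((Fin (n / e) → L) × (Fin (n - n / e * e) → F)) = n := by
    rw [Module.finrank_prod, Module.finrank_pi_fintype, Module.finrank_fin_fun,
      FiniteField.finrank_extension, Finset.sum_const, Finset.card_univ, Fintype.card_fin,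
      smul_eq_mul]
    have := Nat.div_mul_le_self n e
    omega
  let b : Module.Basis (Fin n) F ((Fin (n / e) → L) × (Fin (n - n / e * e) → F)) :=
    Module.finBasisOfFinrankEq F _ hA
  obtain ⟨τ, hτ⟩ := exists_functional (F := F) L (n / e) (n - n / e * e)
  obtain ⟨f, hf⟩ := exists_hom_SL_Sp b τ hτ
  let h0 : (Fin (n / e) → Multiplicative (ZMod (r ^ padicValNat r
      (cyclotomicValue q (orderOf (q : ZMod r)))))) → Matrix (Fin 2) (Fin 2) ((Fin (n / e) → L) × (Fin (n - n / e * e) → F)) := fun x =>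
    Matrix.of fun i j =>
      (fun l => g (x l) i j, (1 : Matrix (Fin 2) (Fin 2) (Fin (n - n / e * e) → F)) i j)
  have h0mul : ∀ x y, h0 (x * y) = h0 x * h0 y := fun x y => by
    refine Matrix.ext fun i j => ?_
    rw [Matrix.mul_apply, Fin.sum_univ_two]
    refine Prod.ext (funext fun l => ?_) ?_
    · show g (x l * y l) i j = g (x l) i 0 * g (y l) 0 j + g (x l) i 1 * g (y l) 1 j
      rw [map_mul]
      show ((g (x l)).1 * (g (y l)).1) i j = _
      rw [Matrix.mul_apply, Fin.sum_univ_two]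
    · show (1 : Matrix (Fin 2) (Fin 2) (Fin (n - n / e * e) → F)) i j =
        (1 : Matrix (Fin 2) (Fin 2) (Fin (n - n / e * e) → F)) i 0 * (1 : Matrix (Fin 2) (Fin 2) _) 0 j +
        (1 : Matrix (Fin 2) (Fin 2) (Fin (n - n / e * e) → F)) i 1 * (1 : Matrix (Fin 2) (Fin 2) _) 1 j
      revert i j; simp [Fin.forall_fin_two]
  have h0det : ∀ x, (h0 x).det = 1 := fun x => by
    rw [Matrix.det_fin_two]
    refine Prod.ext (funext fun l => ?_) ?_
    · show g (x l) 0 0 * g (x l) 1 1 - g (x l) 0 1 * g (x l) 1 0 = 1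
      rw [← Matrix.det_fin_two]
      exact (g (x l)).det_coe
    · show (1 : Matrix (Fin 2) (Fin 2) (Fin (n - n / e * e) → F)) 0 0 *
        (1 : Matrix (Fin 2) (Fin 2) _) 1 1 - (1 : Matrix (Fin 2) (Fin 2) _) 0 1 *
        (1 : Matrix (Fin 2) (Fin 2) _) 1 0 = 1
      simp
  let h : (Fin (n / e) → Multiplicative (ZMod (r ^ padicValNat r
      (cyclotomicValue q (orderOf (q : ZMod r)))))) →* SpecialLinearGroup (Fin 2) ((Fin (n / e) → L) × (Fin (n - n / e * e) → F)) :=
    MonoidHom.mk' (fun x => ⟨h0 x, h0det x⟩) fun x y => Subtype.ext (h0mul x y)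
  have hh : Function.Injective h := fun x y hxy => funext fun l => hg
    (Matrix.SpecialLinearGroup.ext _ _ fun i j =>
      congr_fun (congr_arg Prod.fst (congr_fun₂ (congr_arg Subtype.val hxy) i j)) l)
  rw [hk]
  refine sylow_equiv (f.comp h) (hf.comp hh) ?_ P
  rw [factorization_card_Sp hF hr2 hrn hrq, hk, card_pow_zmod, Nat.factorization_def _ hr.out]

end CfsgLib.GLSylow
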